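import Mathlib

/-!
`O⟦X⟧` is finite free over itself along `X ↦ f` iff `f` is non-zero modulo the maximal ideal.
-/

set_option autoImplicit false

open PowerSeries

universe u

namespace Groth.Agent.SubstFree

variable {O : Type u} [CommRing O] [IsLocalRing O]

/-- Splitting off the constant term after substitution. -/
theorem subst_split (f : PowerSeries O) (hf : HasSubst f) (c : PowerSeries O) :
    subst f c = C (constantCoeff c) +
      f * subst f (mk fun j => coeff (j + 1) c) := by
  conv_lhs => rw [eq_shift_mul_X_add_const c]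
  rw [subst_add hf, subst_mul hf, subst_X hf, subst_C, mul_comm, add_comm]
  rfl

theorem exists_free [IsAdicComplete (IsLocalRing.maximalIdeal O) O] (f : PowerSeries O)
    (hf0 : constantCoeff f = 0) (hne : f.map (IsLocalRing.residue O) ≠ 0) :
    ∃ (n : ℕ) (b : Fin n → PowerSeries O), ∀ g : PowerSeries O, ∃! c : Fin n → PowerSeries O,
      g = ∑ i, subst f (c i) * b i := by
  classical
  have hs : HasSubst f := HasSubst.of_constantCoeff_zero' hf0
  set h := (f.map (Ideal.Quotient.mk (IsLocalRing.maximalIdeal O))).order.toNat with hh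
  refine ⟨h, fun i => X ^ (i : ℕ), fun g => ?_⟩
  have hdiv : ∀ φ : PowerSeries O, ∃ (q : PowerSeries O) (r : Polynomial O),
      φ.IsWeierstrassDivision f q r := fun φ => exists_isWeierstrassDivision φ hne
  choose Q R hQR using hdiv
  have hR : ∀ φ, ((R φ : Polynomial O) : PowerSeries O) =
      ∑ i : Fin h, C ((R φ).coeff i) * X ^ (i : ℕ) := fun φ => by
    ext m
    simp only [Polynomial.coeff_coe, map_sum, coeff_C_mul, coeff_X_pow, mul_ite, mul_one, mul_zero]
    by_cases hm : m < h
    · rw [Finset.sum_eq_single (⟨m, hm⟩ : Fin h)]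
      · simp
      · intro i _ hi
        exact if_neg fun e => hi (Fin.ext e.symm)
      · simp
    · rw [Finset.sum_eq_zero fun (i : Fin h) _ => if_neg fun e : m = (i : ℕ) => hm (e ▸ i.2)]
      refine Polynomial.coeff_eq_zero_of_degree_lt (lt_of_lt_of_le (hQR φ).degree_lt ?_)
      exact_mod_cast Nat.le_of_not_lt hm
  let gs : ℕ → PowerSeries O := fun k => Q^[k] g
  let c₀ : Fin h → PowerSeries O := fun i => mk fun k => (R (gs k)).coeff i
  have hexist : g = ∑ i, subst f (c₀ i) * X ^ (i : ℕ) := by
    have hstep : ∀ k, gs k = f * gs (k + 1) + ∑ i : Fin h, C ((R (gs k)).coeff i) * X ^ (i : ℕ) := by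
      intro k
      simp only [gs, Function.iterate_succ_apply']
      rw [← hR]
      exact (hQR _).eq_mul_add
    have hK : ∀ (K k : ℕ), ∃ u, gs k - ∑ i : Fin h,
        subst f (mk fun j => (R (gs (k + j))).coeff i) * X ^ (i : ℕ) = f ^ K * u := by
      intro K
      induction K with
      | zero => exact fun k => ⟨_, (one_mul _).symm.trans (by rw [pow_zero])⟩
      | succ K ih =>
        intro k
        obtain ⟨u, hu⟩ := ih (k + 1)
        refine ⟨u, ?_⟩
        have hsplit : ∀ i : Fin h, subst f (mk fun j => (R (gs (k + j))).coeff i) * X ^ (i : ℕ) =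
            C ((R (gs k)).coeff i) * X ^ (i : ℕ) +
              f * (subst f (mk fun j => (R (gs (k + 1 + j))).coeff i) * X ^ (i : ℕ)) := fun i => by
          rw [subst_split f hs]
          simp only [constantCoeff_mk, coeff_mk, add_zero]
          simp only [Nat.add_comm, Nat.add_left_comm, add_mul, mul_assoc]
        rw [Finset.sum_congr rfl fun i _ => hsplit i, Finset.sum_add_distrib, ← Finset.mul_sum,
          pow_succ', mul_assoc, ← hu]
        nth_rewrite 1 [hstep k]
        ring
    rw [← sub_eq_zero]
    ext m
    obtain ⟨u, hu⟩ := hK (m + 1) 0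
    simp only [Nat.zero_add] at hu
    change coeff m (gs 0 - ∑ i : Fin h, subst f (c₀ i) * X ^ (i : ℕ)) = coeff m 0
    simp only [c₀]
    rw [hu, map_zero]
    refine X_pow_dvd_iff.mp (Dvd.dvd.mul_right ?_ u) m (Nat.lt_succ_self m)
    exact pow_dvd_pow_of_dvd (X_dvd_iff.mpr hf0) _
  refine ExistsUnique.intro c₀ hexist ?_
  intro c hc
  have huniq : ∀ (k : ℕ) (d : Fin h → PowerSeries O),
      (0 : PowerSeries O) = ∑ i, subst f (d i) * X ^ (i : ℕ) → ∀ i, coeff k (d i) = 0 := by
    intro k
    induction k with
    | zero => ?_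
    | succ k ih => ?_
    all_goals intro d hd i
    all_goals
      set r : Polynomial O :=
        ∑ j : Fin h, Polynomial.C (constantCoeff (d j)) * Polynomial.X ^ (j : ℕ) with hr
      have hrq : (0 : PowerSeries O).IsWeierstrassDivision f
          (∑ j : Fin h, subst f (mk fun m => coeff (m + 1) (d j)) * X ^ (j : ℕ)) r := by
        refine ⟨?_, ?_⟩
        · refine lt_of_le_of_lt (Polynomial.degree_sum_le _ _) ?_
          rw [Finset.sup_lt_iff (WithBot.bot_lt_coe _)]
          exact fun j _ => lt_of_le_of_lt (Polynomial.degree_C_mul_X_pow_le _ _)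
            (WithBot.coe_lt_coe.mpr j.2)
        · rw [hd, hr]
          simp only [← Polynomial.coeToPowerSeries.ringHom_apply, map_sum, map_mul, map_pow]
          simp only [Polynomial.coeToPowerSeries.ringHom_apply, Polynomial.coe_C, Polynomial.coe_X,
            Finset.mul_sum, ← Finset.sum_add_distrib]
          refine Finset.sum_congr rfl fun j _ => ?_
          rw [subst_split f hs]
          ring
      obtain ⟨hq0, hr0⟩ := IsWeierstrassDivision.elim hne hrq (isWeierstrassDivisionAt_zero f _)
    · have h1 := congrArg (fun p : Polynomial O => p.coeff (i : ℕ)) hr0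
      simp only [hr, Polynomial.finsetSum_coeff, Polynomial.coeff_C_mul_X_pow,
        Polynomial.coeff_zero] at h1
      rw [Finset.sum_eq_single i] at h1
      · simpa using h1
      · intro j _ hj
        exact if_neg fun e => hj (Fin.ext e.symm)
      · simp
    · simpa using ih _ hq0.symm i
  funext i
  refine PowerSeries.ext fun k => sub_eq_zero.mp ?_
  rw [← map_sub]
  refine huniq k (fun j => c j - c₀ j) ?_ i
  rw [← sub_self g]
  conv_lhs => arg 1; rw [hc]
  conv_lhs => arg 2; rw [hexist]
  rw [← Finset.sum_sub_distrib]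
  refine Finset.sum_congr rfl fun j _ => ?_
  simp only [← coe_substAlgHom hs, map_sub, sub_mul]

theorem not_free (f : PowerSeries O) (hs : HasSubst f)
    (hf : f.map (IsLocalRing.residue O) = 0) :
    ¬ ∃ (n : ℕ) (b : Fin n → PowerSeries O), ∀ g : PowerSeries O, ∃! c : Fin n → PowerSeries O,
      g = ∑ i, subst f (c i) * b i := by
  rintro ⟨n, b, hb⟩
  let k := IsLocalRing.ResidueField O
  let L : (Fin n → k) →ₗ[k] (Fin (n + 1) → k) :=
    { toFun := fun a j => ∑ i, a i * coeff (j : ℕ) ((b i).map (IsLocalRing.residue O))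
      map_add' := fun a a' => by funext j; simp [add_mul, Finset.sum_add_distrib]
      map_smul' := fun r a => by funext j; simp only [Pi.smul_apply, smul_eq_mul, RingHom.id_apply, mul_assoc]; exact (Finset.mul_sum _ _ _).symm }
  have hsurj : Function.Surjective L := by
    intro v
    choose v' hv' using fun j => IsLocalRing.residue_surjective (v j)
    let g : PowerSeries O := ∑ j : Fin (n + 1), C (v' j) * X ^ (j : ℕ)
    obtain ⟨c, hc, -⟩ := hb g
    refine ⟨fun i => IsLocalRing.residue O (constantCoeff (c i)), ?_⟩
    funext j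
    have h1 : coeff (j : ℕ) g = v' j := by
      simp only [g, map_sum, coeff_C_mul, coeff_X_pow, mul_ite, mul_one, mul_zero]
      rw [Finset.sum_eq_single j]
      · simp
      · intro l _ hl
        exact if_neg fun e => hl (Fin.ext e.symm)
      · simp
    have h2 := congrArg (fun p => coeff (j : ℕ) (PowerSeries.map (IsLocalRing.residue O) p)) hc
    simp only [map_sum, map_mul, subst_split f hs (c _), map_add, map_C, hf, zero_mul, add_zero,
      coeff_C_mul, coeff_map, h1, hv'] at h2
    simp only [L, LinearMap.coe_mk, AddHom.coe_mk, coeff_map]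
    exact h2.symm
  have h3 := LinearMap.finrank_le_finrank_of_injective (f := L.dualMap)
    (LinearMap.dualMap_injective_of_surjective hsurj)
  rw [Subspace.dual_finrank_eq, Subspace.dual_finrank_eq, Module.finrank_fin_fun,
    Module.finrank_fin_fun] at h3
  omega

end Groth.Agent.SubstFree
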